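import Groth.Agent.VersalEtaleLib.Ring
import Groth.Agent.WeightLib.Pts
import Groth.Agent.WeightLib.EtaleQF
import Mathlib.AlgebraicGeometry.Morphisms.Etale
import Mathlib.AlgebraicGeometry.ResidueField

/-!
Formal versality passes to étale covers.
-/

set_option autoImplicit false
universe u

noncomputable section

open AlgebraicGeometry CategoryTheory IsLocalRing

namespace Groth.Agent.VersalEtale

variable {S T U : Scheme.{u}}

theorem residueFieldMap_surjective_iff {C : Type u} [CommRing C] [IsLocalRing C] (a : Spec (CommRingCat.of C) ⟶ T) :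
    Function.Surjective (a.residueFieldMap (closedPoint C)).hom ↔
      ∀ c : C, ∃ o, (Scheme.stalkClosedPointTo a).hom o - c ∈ maximalIdeal C := by
  let σ := stalkClosedPointIso (CommRingCat.of C)
  have hmem : ∀ y : (Spec (CommRingCat.of C)).presheaf.stalk (closedPoint C),
      y ∈ maximalIdeal _ ↔ σ.hom.hom y ∈ maximalIdeal C := fun y => by
    rw [mem_maximalIdeal, mem_maximalIdeal, mem_nonunits_iff, mem_nonunits_iff]
    exact not_congr (MulEquiv.isUnit_map σ.commRingCatIsoToRingEquiv).symm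
  have hnat : ∀ o, (a.residueFieldMap (closedPoint C)).hom (residue _ o) = residue _ ((a.stalkMap (closedPoint C)).hom o) :=
    fun o => congrArg (fun f => f.hom o) (Scheme.residue_residueFieldMap a (closedPoint C))
  constructor
  · intro h c
    obtain ⟨z, hz⟩ := h (residue _ (σ.inv.hom c))
    obtain ⟨o, rfl⟩ := residue_surjective z
    refine ⟨o, ?_⟩
    rw [hnat] at hz
    have h1 := (hmem _).1 (Ideal.Quotient.eq.1 hz)
    rw [map_sub, show σ.hom.hom (σ.inv.hom c) = c from congrArg (fun f => f.hom c) σ.inv_hom_id] at h1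
    exact h1
  · intro h y
    obtain ⟨y, rfl⟩ := residue_surjective y
    obtain ⟨o, ho⟩ := h (σ.hom.hom y)
    refine ⟨residue _ o, (hnat o).trans (Ideal.Quotient.eq.2 ((hmem _).2 ?_))⟩
    rw [map_sub]
    exact ho

theorem exists_lift_etale (e : U ⟶ T) [Etale e] {C C' : Type u} [CommRing C] [CommRing C'] [IsLocalRing C]
    [IsLocalRing C'] [IsArtinianRing C'] (π : C' →+* C) (hπ : Function.Surjective π)
    (a : Spec (CommRingCat.of C) ⟶ U) (c : Spec (CommRingCat.of C') ⟶ T)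
    (h : Spec.map (CommRingCat.ofHom π) ≫ c = a ≫ e) :
    ∃ l : Spec (CommRingCat.of C') ⟶ U, Spec.map (CommRingCat.ofHom π) ≫ l = a ∧ l ≫ e = c := by
  haveI : IsLocalHom π := IsLocalHom.of_surjective _ hπ
  set x := a (closedPoint C) with hx
  obtain ⟨_, ⟨V, hV, rfl⟩, hxV, -⟩ := T.isBasis_affineOpens.exists_subset_of_mem_open
    (Set.mem_univ (e x)) isOpen_univ
  obtain ⟨_, ⟨W, hW, rfl⟩, hxW, hWV⟩ := U.isBasis_affineOpens.exists_subset_of_mem_open
    (show x ∈ e ⁻¹ᵁ V from hxV) (e ⁻¹ᵁ V).2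
  have hrange : ∀ {R : Type u} [CommRing R] [IsLocalRing R] {X : Scheme.{u}} (m : Spec (CommRingCat.of R) ⟶ X)
      (O : X.Opens), m (closedPoint R) ∈ O → Set.range m ⊆ (O : Set X) := by
    rintro R _ _ X m O hO _ ⟨p, rfl⟩
    exact ((specializes_closedPoint p).map m.continuous).mem_open O.2 hO
  have hcx : c (closedPoint C') = e x := by
    rw [← comap_closedPoint π]
    exact congrArg (fun f : Spec (CommRingCat.of C) ⟶ T => f (closedPoint C)) h
  obtain ⟨L, hL⟩ : ∃ L, L ≫ hV.fromSpec = c := ⟨_, IsOpenImmersion.lift_fac hV.fromSpec c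
    (by rw [hV.range_fromSpec]; exact hrange c V (hcx ▸ hxV))⟩
  obtain ⟨M, hM⟩ : ∃ M, M ≫ hW.fromSpec = a := ⟨_, IsOpenImmersion.lift_fac hW.fromSpec a
    (by rw [hW.range_fromSpec]; exact hrange a W hxW)⟩
  have hVW : W ≤ e ⁻¹ᵁ V := hWV
  obtain ⟨γ, rfl⟩ : ∃ γ, Spec.map γ = L := ⟨_, Spec.map_preimage L⟩
  obtain ⟨α, rfl⟩ : ∃ α, Spec.map α = M := ⟨_, Spec.map_preimage M⟩
  have hcomm : γ ≫ CommRingCat.ofHom π = e.appLE V W hVW ≫ α := Spec.map_injective (by
    rw [← cancel_mono hV.fromSpec, Spec.map_comp, Spec.map_comp, Category.assoc, Category.assoc, hL,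
      hV.SpecMap_appLE_fromSpec e hW hVW, ← Category.assoc (Spec.map α), hM, h])
  letI := (e.appLE V W hVW).hom.toAlgebra
  haveI : Algebra.Etale Γ(T, V) Γ(U, W) := Etale.etale_appLE e hV hW hVW
  letI : Algebra Γ(T, V) C' := γ.hom.toAlgebra
  letI : Algebra Γ(T, V) C := (π.comp γ.hom).toAlgebra
  let πA : C' →ₐ[Γ(T, V)] C := ⟨π, fun _ => rfl⟩
  let αA : Γ(U, W) →ₐ[Γ(T, V)] C := ⟨α.hom, fun r => (congrArg (fun f => f.hom r) hcomm).symm⟩
  have hnil : IsNilpotent (RingHom.ker (πA : C' →+* C)) := by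
    obtain ⟨n, hn⟩ := (isArtinianRing_iff_isNilpotent_maximalIdeal C').1 inferInstance
    refine ⟨n, eq_bot_iff.2 ((Ideal.pow_right_mono ?_ n).trans hn.le)⟩
    exact IsLocalRing.le_maximalIdeal (RingHom.ker_ne_top _)
  let l := Algebra.FormallySmooth.liftOfSurjective αA πA hπ hnil
  refine ⟨Spec.map (CommRingCat.ofHom l.toRingHom) ≫ hW.fromSpec, ?_, ?_⟩
  · rw [← hM, ← Category.assoc, ← Spec.map_comp]
    congr 2
    ext r
    exact Algebra.FormallySmooth.liftOfSurjective_apply αA πA hπ hnil r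
  · rw [Category.assoc, ← hV.SpecMap_appLE_fromSpec e hW hVW, ← Category.assoc, ← Spec.map_comp, ← hL]
    congr 2
    ext r
    exact l.commutes r

theorem formallyVersal_of_etale (g : T ⟶ S) (e : U ⟶ T) [Etale e] {C C' : Type u} [CommRing C] [CommRing C']
    [IsLocalRing C] [IsLocalRing C'] [IsArtinianRing C] [IsArtinianRing C']
    (π : C' →+* C) (hπ : Function.Surjective π) (a : Spec (CommRingCat.of C) ⟶ U) (b : Spec (CommRingCat.of C') ⟶ S)
    (hres : Function.Surjective (a.residueFieldMap (closedPoint C)).hom)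
    (hab : Spec.map (CommRingCat.ofHom π) ≫ b = a ≫ (e ≫ g))
    (hT : ∀ (D D' : Type u) [CommRing D] [CommRing D'] [IsLocalRing D] [IsLocalRing D'] [IsArtinianRing D]
        [IsArtinianRing D'] (π : D' →+* D), Function.Surjective π →
        ∀ (a₀ : Spec (CommRingCat.of D) ⟶ T) (b₀ : Spec (CommRingCat.of D') ⟶ S),
          a₀ (closedPoint D) = e (a (closedPoint C)) →
          Function.Surjective (a₀.residueFieldMap (closedPoint D)).hom →
          Spec.map (CommRingCat.ofHom π) ≫ b₀ = a₀ ≫ g →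
          ∃ c : Spec (CommRingCat.of D') ⟶ T, Spec.map (CommRingCat.ofHom π) ≫ c = a₀ ∧ c ≫ g = b₀) :
    ∃ c : Spec (CommRingCat.of C') ⟶ U, Spec.map (CommRingCat.ofHom π) ≫ c = a ∧ c ≫ (e ≫ g) = b := by
  haveI : IsLocalHom π := IsLocalHom.of_surjective _ hπ
  set x := a (closedPoint C) with hx
  let φT : T.presheaf.stalk (e x) ⟶ CommRingCat.of C := e.stalkMap x ≫ Scheme.stalkClosedPointTo a
  have hφT : Spec.map φT ≫ T.fromSpecStalk (e x) = a ≫ e := by
    rw [Spec.map_comp, Category.assoc, Scheme.SpecMap_stalkMap_fromSpecStalk, ← Category.assoc,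
      Scheme.Spec_stalkClosedPointTo_fromSpecStalk]
  haveI : IsLocalHom φT.hom := inferInstanceAs (IsLocalHom ((Scheme.stalkClosedPointTo a).hom.comp (e.stalkMap x).hom))
  let φ : T.presheaf.stalk (e x) →+* ResidueField C := (residue C).comp φT.hom
  let ρ' : C' →+* ResidueField C := (residue C).comp π
  have hρ' : Function.Surjective ρ' := residue_surjective.comp hπ
  haveI : IsLocalHom φ := RingHom.isLocalHom_comp _ _
  haveI : IsLocalHom ρ' := RingHom.isLocalHom_comp _ _
  have hfin : φ.Finite := by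
    haveI := WeightLib.locallyQuasiFinite_of_etale e
    have h1 : φ = (ResidueField.map (Scheme.stalkClosedPointTo a).hom).comp
        ((e.residueFieldMap x).hom.comp (residue _)) := RingHom.ext fun o => rfl
    have h2 : Function.Surjective (ResidueField.map (Scheme.stalkClosedPointTo a).hom) := by
      intro z
      obtain ⟨c, rfl⟩ := residue_surjective z
      obtain ⟨o, ho⟩ := (residueFieldMap_surjective_iff a).1 hres c
      exact ⟨residue _ o, Ideal.Quotient.eq.2 ho⟩
    rw [h1]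
    exact (RingHom.Finite.of_surjective _ h2).comp
      ((WeightLib.finite_residueFieldMap e x).comp (RingHom.Finite.of_surjective _ residue_surjective))
  let C₀ := sub (residue C) φ
  let C₀' := sub ρ' φ
  haveI : IsLocalRing C₀ := isLocalRing_sub (residue C) φ
  haveI : IsLocalRing C₀' := isLocalRing_sub ρ' φ
  haveI : IsArtinianRing C₀ := isArtinianRing_sub (residue C) φ residue_surjective hfin
  haveI : IsArtinianRing C₀' := isArtinianRing_sub ρ' φ hρ' hfin
  let π₀ : C₀' →+* C₀ := (π.comp C₀'.subtype).codRestrict C₀ fun c => c.2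
  have hπ₀ : Function.Surjective π₀ := fun c => by
    obtain ⟨d, hd⟩ := hπ c
    exact ⟨⟨d, by show residue C (π d) ∈ φ.range; rw [hd]; exact c.2⟩, Subtype.ext hd⟩
  let φ₀ : T.presheaf.stalk (e x) →+* C₀ := φT.hom.codRestrict C₀ fun o => ⟨o, rfl⟩
  haveI : IsLocalHom φ₀ := ⟨fun o ho => isUnit_of_map_unit φT.hom o (ho.map C₀.subtype)⟩
  let a₀ : Spec (CommRingCat.of C₀) ⟶ T := Spec.map (CommRingCat.ofHom φ₀) ≫ T.fromSpecStalk (e x)
  have hj : Spec.map (CommRingCat.ofHom C₀.subtype) ≫ a₀ = a ≫ e := by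
    rw [← Category.assoc, ← Spec.map_comp, ← hφT]
    rfl
  have ha₀ : a₀ (closedPoint C₀) = e x := by
    show T.fromSpecStalk (e x) (PrimeSpectrum.comap φ₀ (closedPoint C₀)) = e x
    rw [comap_closedPoint]
    exact Scheme.fromSpecStalk_closedPoint
  obtain ⟨_, ⟨Vs, hVs, rfl⟩, hxs, -⟩ := S.isBasis_affineOpens.exists_subset_of_mem_open
    (Set.mem_univ (g (e x))) isOpen_univ
  obtain ⟨_, ⟨V, hV, rfl⟩, hxV, hV'⟩ := T.isBasis_affineOpens.exists_subset_of_mem_open
    (show e x ∈ g ⁻¹ᵁ Vs from hxs) (g ⁻¹ᵁ Vs).2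
  have hVg : V ≤ g ⁻¹ᵁ Vs := hV'
  let θ : Γ(S, Vs) ⟶ CommRingCat.of C₀ := g.appLE Vs V hVg ≫ T.presheaf.germ V (e x) hxV ≫ CommRingCat.ofHom φ₀
  have hθ : Spec.map θ ≫ hVs.fromSpec = a₀ ≫ g := by
    rw [Spec.map_comp, Spec.map_comp, Category.assoc, Category.assoc, hVs.SpecMap_appLE_fromSpec g hV hVg,
      ← Category.assoc (Spec.map (T.presheaf.germ V (e x) hxV))]
    show _ = (Spec.map (CommRingCat.ofHom φ₀) ≫ T.fromSpecStalk (e x)) ≫ g
    rw [← hV.fromSpecStalk_eq_fromSpecStalk hxV, IsAffineOpen.fromSpecStalk]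
    exact (Category.assoc _ _ _).symm
  have hbx : b (closedPoint C') = g (e x) := by
    rw [← comap_closedPoint π]
    exact congrArg (fun f : Spec (CommRingCat.of C) ⟶ S => f (closedPoint C)) hab
  obtain ⟨β, hβ⟩ : ∃ β, Spec.map β ≫ hVs.fromSpec = b := by
    refine ⟨Spec.preimage (IsOpenImmersion.lift hVs.fromSpec b ?_), ?_⟩
    · rw [hVs.range_fromSpec]
      rintro _ ⟨p, rfl⟩
      exact ((specializes_closedPoint p).map b.continuous).mem_open Vs.2 (hbx ▸ hxs)
    · rw [Spec.map_preimage, IsOpenImmersion.lift_fac]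
  have hcompat : β ≫ CommRingCat.ofHom π = θ ≫ CommRingCat.ofHom C₀.subtype := Spec.map_injective (by
    rw [← cancel_mono hVs.fromSpec, Spec.map_comp, Spec.map_comp, Category.assoc, Category.assoc, hβ, hθ,
      hab, ← Category.assoc, ← Category.assoc, hj])
  let β₀ : Γ(S, Vs) →+* C₀' := β.hom.codRestrict C₀' fun s => by
    show residue C (π (β.hom s)) ∈ φ.range
    rw [show π (β.hom s) = (θ.hom s : C) from congrArg (fun f => f.hom s) hcompat]
    exact (θ.hom s).2
  let b₀ : Spec (CommRingCat.of C₀') ⟶ S := Spec.map (CommRingCat.ofHom β₀) ≫ hVs.fromSpec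
  have hres₀ : Function.Surjective (a₀.residueFieldMap (closedPoint C₀)).hom := by
    refine (residueFieldMap_surjective_iff a₀).2 fun c => ?_
    obtain ⟨o, ho⟩ := c.2
    obtain ⟨O, hO, s, rfl⟩ := T.presheaf.germ_exist o
    have hO' : a₀ (closedPoint C₀) ∈ O := ha₀ ▸ hO
    refine ⟨(T.presheaf.germ O _ hO').hom s, ?_⟩
    have hg := congrArg (fun f => f.hom s)
      (Scheme.germ_stalkClosedPointTo_Spec_fromSpecStalk (CommRingCat.ofHom φ₀) O hO')
    rw [show (Scheme.stalkClosedPointTo a₀).hom ((T.presheaf.germ O _ hO').hom s) = φ₀ ((T.presheaf.germ O (e x) hO).hom s) from hg,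
      mem_maximalIdeal, mem_nonunits_iff]
    intro hu
    refine (hu.map ((residue C).comp C₀.subtype)).ne_zero ?_
    show residue C (φT.hom ((T.presheaf.germ O (e x) hO).hom s) - (c : C)) = 0
    rw [map_sub]
    exact sub_eq_zero.2 ho
  obtain ⟨c₀, hc₁, hc₂⟩ := hT C₀ C₀' π₀ hπ₀ a₀ b₀ ha₀ hres₀ (by
    rw [← hθ, ← Category.assoc, ← Spec.map_comp]
    congr 2
    ext s
    exact (congrArg (fun f => f.hom s) hcompat : _))
  let c' : Spec (CommRingCat.of C') ⟶ T := Spec.map (CommRingCat.ofHom C₀'.subtype) ≫ c₀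
  have hc' : Spec.map (CommRingCat.ofHom π) ≫ c' = a ≫ e := by
    rw [← hj, ← hc₁, ← Category.assoc, ← Category.assoc, ← Spec.map_comp, ← Spec.map_comp]
    rfl
  obtain ⟨l, hl₁, hl₂⟩ := exists_lift_etale e π hπ a c' hc'
  refine ⟨l, hl₁, ?_⟩
  rw [← Category.assoc, hl₂, Category.assoc, hc₂, ← Category.assoc, ← Spec.map_comp]
  exact hβ

end Groth.Agent.VersalEtale
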