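import Mathlib.RingTheory.Artinian.Module
import Mathlib.RingTheory.Noetherian.OfPrime
import Mathlib.RingTheory.LocalRing.ResidueField.Basic
import Mathlib.RingTheory.Finiteness.Basic
import Mathlib.RingTheory.Ideal.KrullsHeightTheorem

/-!
The subring of an Artinian local ring of the elements with residue in a subfield of finite index.
-/

set_option autoImplicit false
universe u

open IsLocalRing

namespace Groth.Agent.VersalEtale

variable {O C κ : Type u} [CommRing O] [CommRing C] [IsLocalRing C] [Field κ]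
  (ρ : C →+* κ) (φ : O →+* κ)

/-- The elements whose residue comes from `O`. -/
def sub : Subring C := φ.range.comap ρ

theorem mem_sub {c : C} : c ∈ sub ρ φ ↔ ∃ o, φ o = ρ c := Iff.rfl

variable [IsLocalHom ρ] [IsLocalHom φ]

omit [IsLocalHom φ] in
theorem mem_maximal_iff {c : C} : c ∈ maximalIdeal C ↔ ρ c = 0 := by
  rw [mem_maximalIdeal, mem_nonunits_iff]
  exact ⟨fun h => by_contra fun h' => h (isUnit_of_map_unit ρ c (Ne.isUnit h')),
    fun h hu => (hu.map ρ).ne_zero h⟩

theorem isUnit_sub {c : sub ρ φ} (h : IsUnit (c : C)) : IsUnit c := by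
  obtain ⟨u, hu⟩ := h
  obtain ⟨o, ho⟩ := (mem_sub ρ φ).1 c.2
  have hne : φ o ≠ 0 := by rw [ho, ← hu]; exact (u.isUnit.map ρ).ne_zero
  obtain ⟨o', ho'⟩ := (isUnit_of_map_unit φ o (Ne.isUnit hne)).exists_right_inv
  refine IsUnit.of_mul_eq_one (⟨((u⁻¹ : Cˣ) : C), (mem_sub ρ φ).2 ⟨o', ?_⟩⟩ : sub ρ φ)
    (Subtype.ext (by show (c : C) * ((u⁻¹ : Cˣ) : C) = 1; rw [← hu, Units.mul_inv]))
  refine mul_left_cancel₀ hne ?_
  rw [← map_mul, ho', map_one, ho, ← hu, ← map_mul, Units.mul_inv, map_one]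

theorem isLocalRing_sub : IsLocalRing (sub ρ φ) := by
  refine IsLocalRing.of_isUnit_or_isUnit_one_sub_self fun c => ?_
  rcases IsLocalRing.isUnit_or_isUnit_one_sub_self (c : C) with h | h
  · exact Or.inl (isUnit_sub ρ φ h)
  · exact Or.inr (isUnit_sub ρ φ (c := 1 - c) h)

theorem isArtinianRing_sub [IsArtinianRing C] (hρ : Function.Surjective ρ) (hφ : φ.Finite) :
    IsArtinianRing (sub ρ φ) := by
  haveI := isLocalRing_sub ρ φ
  letI := φ.toAlgebra
  haveI : Module.Finite O κ := hφ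
  obtain ⟨G, hG⟩ := (Module.Finite.fg_top : (⊤ : Submodule O κ).FG)
  choose lift hlift using hρ
  have hm : ∀ c : C, c ∈ maximalIdeal C → c ∈ sub ρ φ := fun c hc =>
    (mem_sub ρ φ).2 ⟨0, by rw [map_zero, (mem_maximal_iff ρ).1 hc]⟩
  haveI : Module.Finite (sub ρ φ) C := by
    classical
    refine ⟨⟨G.image lift ∪ {1}, eq_top_iff.2 fun c _ => ?_⟩⟩
    let S := Submodule.span (sub ρ φ) ((G.image lift ∪ {1} : Finset C) : Set C)
    have h1 : ∀ k : κ, k ∈ Submodule.span O (G : Set κ) → ∃ s ∈ S, ρ s = k := by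
      intro k hk
      induction hk using Submodule.span_induction with
      | mem g hg => exact ⟨lift g, Submodule.subset_span (by simp [hg]; exact Or.inr ⟨g, hg, rfl⟩), hlift g⟩
      | zero => exact ⟨0, zero_mem _, map_zero ρ⟩
      | add a b _ _ ha hb =>
        obtain ⟨s, hs, rfl⟩ := ha
        obtain ⟨t, ht, rfl⟩ := hb
        exact ⟨s + t, add_mem hs ht, map_add ρ s t⟩
      | smul o a _ ha =>
        obtain ⟨s, hs, rfl⟩ := ha
        refine ⟨(⟨lift (φ o), (mem_sub ρ φ).2 ⟨o, (hlift _).symm⟩⟩ : sub ρ φ) • s, S.smul_mem _ hs, ?_⟩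
        show ρ (lift (φ o) * s) = φ o * ρ s
        rw [map_mul, hlift]
    obtain ⟨s, hs, hs'⟩ := h1 (ρ c) (by rw [hG]; trivial)
    have h2 : c - s ∈ maximalIdeal C := (mem_maximal_iff ρ).2 (by rw [map_sub, hs', sub_self])
    have h3 : c - s ∈ S := by
      have h4 := S.smul_mem (⟨c - s, hm _ h2⟩ : sub ρ φ) (Submodule.subset_span (show (1 : C) ∈ _ by simp))
      rw [Subring.smul_def, smul_eq_mul, mul_one] at h4
      exact h4
    have := add_mem h3 hs
    rwa [sub_add_cancel] at this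
  have hmax : maximalIdeal (sub ρ φ) = (maximalIdeal C).comap (sub ρ φ).subtype := by
    ext c
    rw [Ideal.mem_comap, mem_maximalIdeal, mem_maximalIdeal, mem_nonunits_iff, mem_nonunits_iff]
    exact not_congr ⟨fun h => h.map (sub ρ φ).subtype, isUnit_sub ρ φ⟩
  have hfg : (maximalIdeal (sub ρ φ)).FG := by
    have h1 : ((maximalIdeal C).restrictScalars (sub ρ φ)).FG :=
      Submodule.FG.restrictScalars (maximalIdeal C).fg_of_isNoetherianRing
    have h2 : Submodule.map (Algebra.linearMap (sub ρ φ) C) (maximalIdeal (sub ρ φ)) =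
        (maximalIdeal C).restrictScalars (sub ρ φ) := by
      ext c
      constructor
      · rintro ⟨d, hd, rfl⟩
        rw [hmax] at hd
        exact hd
      · intro hc
        exact ⟨⟨c, hm c hc⟩, by rw [hmax]; exact hc, rfl⟩
    exact Submodule.fg_of_fg_map_injective _ (show Function.Injective (Algebra.linearMap (sub ρ φ) C) from fun a b h => Subtype.ext h) (h2.symm ▸ h1)
  have hnil : IsNilpotent (maximalIdeal (sub ρ φ)) := by
    obtain ⟨n, hn⟩ := (isArtinianRing_iff_isNilpotent_maximalIdeal C).1 inferInstance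
    refine ⟨n, eq_bot_iff.2 fun c hc => ?_⟩
    have h := Ideal.mem_map_of_mem (sub ρ φ).subtype hc
    rw [Ideal.map_pow, hmax] at h
    have h' := Ideal.pow_right_mono Ideal.map_comap_le n h
    rw [hn] at h'
    exact Subtype.ext h'
  haveI : IsNoetherianRing (sub ρ φ) := IsNoetherianRing.of_prime fun P hP => by
    obtain ⟨n, hn⟩ := hnil
    have : maximalIdeal (sub ρ φ) ≤ P := hP.le_of_pow_le (n := n) (hn ▸ bot_le)
    rwa [← (maximalIdeal.isMaximal (sub ρ φ)).eq_of_le hP.ne_top this]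
  exact (isArtinianRing_iff_isNilpotent_maximalIdeal _).2 hnil

end Groth.Agent.VersalEtale
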